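import Cfsg.Agent.JComp.Blocks
import Mathlib.GroupTheory.SpecificGroups.Dihedral
import Mathlib.GroupTheory.NoncommPiCoprod

/-!
# A normal set of transvections generates a direct product of symmetric groups of degree three
-/

set_option autoImplicit false
set_option linter.unusedSectionVars false
set_option linter.style.haveILetI false

namespace CfsgLib.JOffender

open Subgroup CfsgLib.JComp

/-- The map `r k ↦ y ^ k`, `sr k ↦ t * y ^ k`. -/
def dihedralThreeHom {G : Type*} [Group G] (t y : G) (ht : t * t = 1) (hy : y ^ 3 = 1)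
    (hinv : t * y * t = y⁻¹) : DihedralGroup 3 →* G where
  toFun
    | .r k => y ^ k.val
    | .sr k => t * y ^ k.val
  map_one' := show y ^ (0 : ZMod 3).val = 1 by simp
  map_mul' := by
    have hadd : ∀ a b : ZMod 3, y ^ (a + b).val = y ^ a.val * y ^ b.val := fun a b => by
      rw [ZMod.val_add, ← pow_eq_pow_mod _ hy, pow_add]
    have hsub : ∀ a b : ZMod 3, y ^ (b - a).val = (y ^ a.val)⁻¹ * y ^ b.val := fun a b => by
      rw [eq_inv_mul_iff_mul_eq, ← hadd, add_sub_cancel]
    have hti : t⁻¹ = t := inv_eq_of_mul_eq_one_right ht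
    have hflip : ∀ k : ℕ, t * y ^ k * t = (y ^ k)⁻¹ := fun k => by
      have h1 : (t * y * t⁻¹) ^ k = t * y ^ k * t⁻¹ := conj_pow
      rw [hti, hinv, inv_pow] at h1
      exact h1.symm
    rintro (a | a) (b | b)
    · simpa using hadd a b
    · simp only [DihedralGroup.r_mul_sr]
      rw [hsub, ← hflip, mul_assoc, mul_assoc, ← mul_assoc t t, ht, one_mul]
    · simp only [DihedralGroup.sr_mul_r]
      rw [hadd, mul_assoc]
    · simp only [DihedralGroup.sr_mul_sr]
      rw [hsub, ← hflip]
      simp [mul_assoc]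

theorem dihedralThreeHom_r {G : Type*} [Group G] (t y : G) (ht : t * t = 1) (hy : y ^ 3 = 1)
    (hinv : t * y * t = y⁻¹) (k : ZMod 3) :
    dihedralThreeHom t y ht hy hinv (.r k) = y ^ k.val := rfl

theorem dihedralThreeHom_sr {G : Type*} [Group G] (t y : G) (ht : t * t = 1) (hy : y ^ 3 = 1)
    (hinv : t * y * t = y⁻¹) (k : ZMod 3) :
    dihedralThreeHom t y ht hy hinv (.sr k) = t * y ^ k.val := rfl

/-- `D_6 ≅ S_3`. -/
noncomputable def dihedralThreeEquiv : DihedralGroup 3 ≃* Equiv.Perm (Fin 3) :=
  MulEquiv.ofBijective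
    (dihedralThreeHom (Equiv.swap (0 : Fin 3) 1) (finRotate 3) (by decide) (by decide) (by decide))
    (by decide)

variable {Γ V : Type*} [Group Γ] [CommGroup V] [MulDistribMulAction Γ V] [Finite Γ] [Finite V]
variable {F : Subgroup Γ}

theorem transvection_ne_one {t : Γ} (ht : IsTransvection V t) : t ≠ 1 := by
  rintro rfl
  have h1 := ht.2
  have h2 : modComm (V := V) (1 : Γ) = ⊥ := by
    refine (Subgroup.eq_bot_iff_forall _).mpr ?_
    rintro _ ⟨v, rfl⟩
    simp
  rw [h2, Subgroup.card_bot] at h1
  exact absurd h1 (by norm_num)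

/-- A normal set of transvections generates a direct product of copies of `S_3`. -/
theorem exists_equiv_of_transvections (h : Setting Γ V F) {S : Set Γ}
    (hS : ∀ t ∈ S, IsTransvection V t) (hconj : ∀ g : Γ, ∀ t ∈ S, g * t * g⁻¹ ∈ S)
    (hne : S.Nonempty) :
    ∃ n : ℕ, 1 ≤ n ∧ Nonempty (↥(closure S) ≃* (Fin n → Equiv.Perm (Fin 3))) := by
  classical
  choose Y hY hYinv using fun t : S => h.exists_inverted (hS t t.2)
  let Bl : Set (Subgroup Γ) := Set.range fun t : S => zpowers (Y t)
  haveI : Nonempty S := hne.to_subtype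
  haveI : Nonempty Bl := (Set.range_nonempty _).to_subtype
  let e : Fin (Nat.card Bl) ≃ Bl := (Finite.equivFin _).symm
  choose τ hτ using fun i : Fin (Nat.card Bl) => (e i).2
  have hord : ∀ i, Y (τ i) ^ 3 = 1 := fun i => by
    rw [← (hY (τ i)).order, pow_orderOf_eq_one]
  have htr : ∀ i, IsTransvection V (τ i : Γ) := fun i => hS _ (τ i).2
  let f : Fin (Nat.card Bl) → DihedralGroup 3 →* Γ := fun i =>
    dihedralThreeHom (τ i : Γ) (Y (τ i)) (htr i).1 (hord i) (hYinv (τ i))
  have hfr : ∀ i, (f i).range = closure {(τ i : Γ), Y (τ i)} := by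
    intro i
    refine le_antisymm ?_ ((closure_le _).mpr ?_)
    · rintro _ ⟨x, rfl⟩
      rcases x with k | k
      · exact pow_mem (subset_closure (by simp)) _
      · exact mul_mem (subset_closure (by simp)) (pow_mem (subset_closure (by simp)) _)
    · rintro _ (rfl | rfl)
      · exact ⟨.sr 0, by simp [f, dihedralThreeHom_sr]⟩
      · exact ⟨.r 1, by rw [dihedralThreeHom_r, ZMod.val_one, pow_one]⟩
  have hsep : ∀ i j, i ≠ j → Y (τ j) ∉ zpowers (Y (τ i)) := by
    intro i j hij hmem
    refine hij (e.injective (Subtype.ext ?_))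
    rw [← hτ i, ← hτ j]
    exact (zpowers_eq_of_mem (hY _).order hmem (hY _).ne_one).symm
  have hcc : Pairwise fun i j => ∀ x y, Commute (f i x) (f j y) := by
    intro i j hij x y
    have hle : (f i).range ≤ centralizer ((f j).range : Set Γ) := by
      rw [hfr i, hfr j, centralizer_closure, closure_le]
      intro a ha b hb
      have hne1 := hsep i j hij
      have hne2 := hsep j i (Ne.symm hij)
      rcases ha with rfl | rfl <;> rcases hb with rfl | rfl
      · exact ((hY _).transvection_commute h (htr i) (hYinv _) (hY _) (htr j) (hYinv _) hne1).eq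
      · exact ((hY _).transvection_other h (htr i) (hYinv _) (hY _) hne1).1.eq.symm
      · exact ((hY _).transvection_other h (htr j) (hYinv _) (hY _) hne2).1.eq
      · exact ((hY (τ i)).commute h (hY (τ j))).symm.eq
    exact (mem_centralizer_iff.mp (hle ⟨x, rfl⟩) _ ⟨y, rfl⟩).symm
  let φ := MonoidHom.noncommPiCoprod f hcc
  have hind : iSupIndep fun i => (f i).range := by
    intro i
    rw [disjoint_iff, Subgroup.eq_bot_iff_forall]
    rintro g ⟨hg1, hg2⟩
    have hW : ∀ u ∈ modComm (V := V) (Y (τ i)), g • u = u := by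
      refine (mem_fixingSubgroup_iff Γ).mp ?_
      refine (iSup₂_le fun j hj => ?_ :
        (⨆ j, ⨆ (_ : j ≠ i), (f j).range) ≤ fixingSubgroup Γ (modComm (V := V) (Y (τ i)) : Set V)) hg2
      rw [hfr j, closure_le]
      rintro a (rfl | rfl) <;> refine (mem_fixingSubgroup_iff Γ).mpr fun u hu => ?_
      · exact ((hY _).transvection_other h (htr j) (hYinv _) (hY _) (hsep j i hj)).2 u hu
      · exact (hY (τ i)).smul_eq_self h (hY (τ j)) (hsep i j (Ne.symm hj)) hu
    have hfix : ∀ u ∈ fix (V := V) {Y (τ i)}, g • u = u := by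
      refine (mem_fixingSubgroup_iff Γ).mp ?_
      refine (?_ : (f i).range ≤ fixingSubgroup Γ (fix (V := V) {Y (τ i)} : Set V)) hg1
      rw [hfr i, closure_le]
      rintro a (rfl | rfl) <;> refine (mem_fixingSubgroup_iff Γ).mpr fun u hu => ?_
      · exact (hY _).transvection_fix h (htr i) (hYinv _) hu
      · exact mem_fix_singleton.mp hu
    refine h.eq_of_agree (hY (τ i)).odd (b := 1) (fun u hu => ?_) fun u hu => ?_
    · rw [hW u hu, one_smul]
    · rw [hfix u hu, one_smul]
  have hinj : ∀ i, Function.Injective (f i) := by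
    intro i
    refine (injective_iff_map_eq_one _).mpr fun x hx => ?_
    rcases x with k | k
    · have hk : Y (τ i) ^ k.val = 1 := hx
      rw [← orderOf_dvd_iff_pow_eq_one, (hY _).order] at hk
      have h0 := Nat.eq_zero_of_dvd_of_lt hk k.val_lt
      rw [(ZMod.val_eq_zero k).mp h0, DihedralGroup.r_zero]
    · exfalso
      have hk : (τ i : Γ) * Y (τ i) ^ k.val = 1 := hx
      refine transvection_ne_one (htr i) ?_
      refine mem_bot.mp (?_ : (τ i : Γ) ∈ (⊥ : Subgroup Γ))
      have hodd : Odd (orderOf ((τ i : Γ))) := by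
        rw [eq_inv_of_mul_eq_one_left hk, orderOf_inv]
        exact (hY (τ i)).odd.of_dvd_nat (orderOf_pow_dvd _)
      rw [mem_bot]
      exact eq_one_of_inv_eq hodd (inv_eq_of_mul_eq_one_right (htr i).1)
  have hφinj : Function.Injective φ := MonoidHom.injective_noncommPiCoprod_of_iSupIndep f hind hinj
  have hrange : φ.range = closure S := by
    rw [MonoidHom.noncommPiCoprod_range]
    refine le_antisymm (iSup_le fun i => ?_) ((closure_le _).mpr fun t ht => ?_)
    · rw [hfr i, closure_le]
      have h1 : (τ i : Γ) ∈ closure S := subset_closure (τ i).2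
      rintro _ (rfl | rfl)
      · exact h1
      · set y := Y (τ i)
        set s := (τ i : Γ)
        have h2 : y ^ 2 ∈ closure S := by
          have e2 : y ^ 2 = y * s * y⁻¹ * s := by
            have e3 : s * y⁻¹ * s = y := by
              have e4 : s * y * s = y⁻¹ := hYinv (τ i)
              rw [← e4]
              simp only [mul_assoc]
              rw [(htr i).1, mul_one, ← mul_assoc, (htr i).1, one_mul]
            conv_rhs => rw [mul_assoc, mul_assoc, ← mul_assoc s, e3]
            rw [pow_two]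
          rw [e2]
          exact mul_mem (subset_closure (hconj y s (τ i).2)) h1
        exact zpowers_le.mpr h2 (mem_zpowers_sq (hY (τ i)).odd)
    · set i := e.symm ⟨zpowers (Y ⟨t, ht⟩), ⟨t, ht⟩, rfl⟩
      refine mem_iSup_of_mem i ?_
      have hz : zpowers (Y (τ i)) = zpowers (Y ⟨t, ht⟩) := by
        have := hτ i
        simp only [i, Equiv.apply_symm_apply] at this ⊢
        exact this
      have hinv' : t * Y (τ i) * t = (Y (τ i))⁻¹ := by
        rcases eq_or_eq_inv_of_mem_zpowers (hY ⟨t, ht⟩).order (hz ▸ mem_zpowers (Y (τ i)))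
          (hY _).ne_one with e' | e'
        · rw [e']; exact hYinv ⟨t, ht⟩
        · rw [e', inv_inv]
          have e4 := congrArg (·⁻¹) (hYinv ⟨t, ht⟩)
          simpa [mul_assoc, inv_eq_of_mul_eq_one_right (hS t ht).1] using e4
      obtain ⟨k, hk⟩ := mem_zpowers_iff.mp
        ((hY (τ i)).mul_mem_zpowers h (htr i) (hYinv _) (hS t ht) hinv')
      have ht' : t = (τ i : Γ) * Y (τ i) ^ k := by
        rw [hk, ← mul_assoc, (htr i).1, one_mul]
      rw [hfr i, ht']
      exact mul_mem (subset_closure (by simp)) (zpow_mem (subset_closure (by simp)) _)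
  exact ⟨Nat.card Bl, Nat.card_pos,
    ⟨((MulEquiv.subgroupCongr hrange.symm).trans (MonoidHom.ofInjective hφinj).symm).trans
      (MulEquiv.piCongrRight fun _ => dihedralThreeEquiv)⟩⟩

end CfsgLib.JOffender
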