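import Cfsg.Agent.JComp.Blocks
import Cfsg.Agent.HallHigman.CyclicQuotient

/-!
# Abelian offenders

In the setting of `CfsgLib.JComp.Setting`, an abelian 2-subgroup `A` (not assumed elementary) has
`|A| ≤ |V : C_V(A)|`, and in case of equality it is generated by transvections.
-/

set_option autoImplicit false
set_option linter.unusedSectionVars false
set_option linter.style.haveILetI false

namespace CfsgLib.JOffender

open Subgroup CfsgLib.JComp

variable {Γ V : Type*} [Group Γ] [CommGroup V] [MulDistribMulAction Γ V] [Finite Γ] [Finite V]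
variable {F : Subgroup Γ}

/-- An element of odd order commuting with an abelian 2-group and fixing its fixed points is trivial. -/
theorem smul_eq_of_fix_le_abelian (hV : ∀ v : V, v * v = 1) {y : Γ} (hy : Odd (orderOf y))
    {B : Subgroup Γ} (hB : IsPGroup 2 B) (hc : ∀ a ∈ B, ∀ b ∈ B, Commute a b)
    (hyB : ∀ b ∈ B, Commute y b) (hfix : ∀ v ∈ fix (V := V) (B : Set Γ), y • v = v) (v : V) :
    y • v = v := by
  induction hn : Nat.card B using Nat.strong_induction_on generalizing B v with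
  | h n ih =>
  subst hn
  haveI : Fact (Nat.Prime 2) := ⟨Nat.prime_two⟩
  obtain ⟨k, hk⟩ := hB.exists_card_eq
  rcases eq_or_ne k 0 with rfl | hk0
  · refine hfix v fun a ha => ?_
    have h1 : B = ⊥ := Subgroup.card_eq_one.mp (by simpa using hk)
    rw [mem_bot.mp (h1 ▸ ha : a ∈ (⊥ : Subgroup Γ)), one_smul]
  obtain ⟨m, rfl⟩ := Nat.exists_eq_succ_of_ne_zero hk0
  obtain ⟨B₀', hB₀'⟩ := Sylow.exists_subgroup_card_pow_prime 2
    (show 2 ^ m ∣ Nat.card B from hk ▸ pow_dvd_pow 2 (Nat.le_succ m))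
  set B₀ := B₀'.map B.subtype with hB₀def
  have hle : B₀ ≤ B := map_subtype_le _
  have hcard : Nat.card B₀ = 2 ^ m := by
    rw [hB₀def, Subgroup.card_map_of_injective B.subtype_injective, hB₀']
  have hidx : B₀'.index = 2 := by
    have := B₀'.card_mul_index
    rw [hB₀', hk, pow_succ] at this
    exact Nat.eq_of_mul_eq_mul_left (by positivity) this
  have hsq : ∀ b ∈ B, b * b ∈ B₀ := fun b hb => by
    haveI : B₀'.Normal := Subgroup.normal_of_index_eq_two hidx
    have h2 := Subgroup.pow_index_mem B₀' ⟨b, hb⟩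
    rw [hidx] at h2
    exact ⟨_, h2, by simp [pow_two]⟩
  have hlt : Nat.card B₀ < Nat.card B := by
    rw [hcard, hk]; exact Nat.pow_lt_pow_right one_lt_two (Nat.lt_succ_self m)
  obtain ⟨b, hb, hb0⟩ : ∃ b ∈ B, b ∉ B₀ := by
    by_contra hno
    push Not at hno
    exact (Subgroup.card_le_of_le (show B ≤ B₀ from hno)).not_gt hlt
  have hcov : ∀ a ∈ B, a ∈ B₀ ∨ b⁻¹ * a ∈ B₀ := by
    intro a ha
    by_cases haB : a ∈ B₀
    · exact Or.inl haB
    right
    have h1 := (Subgroup.mul_mem_iff_of_index_two hidx (a := (⟨b, hb⟩ : B)⁻¹) (b := ⟨a, ha⟩)).mpr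
      ⟨fun h => absurd ⟨_, B₀'.inv_mem h, by simp⟩ hb0, fun h => absurd ⟨_, h, rfl⟩ haB⟩
    exact ⟨_, h1, by simp⟩
  refine ih _ hlt (hB.to_le hle) (fun a ha c hc' => hc a (hle ha) c (hle hc'))
    (fun a ha => hyB a (hle ha)) ?_ v rfl
  intro u hu
  have hbb : b • b • u = u := by rw [← mul_smul]; exact hu _ (hsq b hb)
  have hfB : ∀ {x : V}, x ∈ fix (V := V) (B₀ : Set Γ) → b • x = x → x ∈ fix (V := V) (B : Set Γ) := by
    intro x hx hbx a ha
    rcases hcov a ha with h | h
    · exact hx a h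
    · rw [show a = b * (b⁻¹ * a) by group, mul_smul, hx _ h, hbx]
  have hbfix : ∀ {x : V}, x ∈ fix (V := V) (B₀ : Set Γ) → b • x ∈ fix (V := V) (B₀ : Set Γ) := by
    intro x hx a ha
    rw [← mul_smul, (hc a (hle ha) b hb).eq, mul_smul, hx a ha]
  have hyfix : ∀ {x : V}, x ∈ fix (V := V) (B₀ : Set Γ) → y • x ∈ fix (V := V) (B₀ : Set Γ) := by
    intro x hx a ha
    rw [← mul_smul, ← (hyB a (hle ha)).eq, mul_smul, hx a ha]
  -- `u * (b • u)` is fixed by `B`
  have h1 : y • (u * b • u) = u * b • u :=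
    hfix _ (hfB (mul_mem hu (hbfix hu)) (by rw [smul_mul', hbb, mul_comm]))
  set w := (y • u) / u with hw
  have h2 : b • w = w := by
    have e : y • b • u = b • y • u := by
      rw [← mul_smul, ← mul_smul, (hyB b hb).eq]
    rw [smul_mul', e] at h1
    rw [hw, div_eq_mul' hV, smul_mul']
    calc b • y • u * b • u = (y • u)⁻¹ * (u * b • u) * b • u := by
          nth_rewrite 1 [← h1]; rw [inv_mul_cancel_left]
      _ = (y • u) * u := by
          rw [inv_eq_self' hV, mul_assoc, mul_assoc u, hV, mul_one]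
  have h3 : y • w = w := hfix _ (hfB (div_mem (hyfix hu) hu) h2)
  apply smul_eq_of_sq_fix hy
  have h4 : y • u = u * w := by rw [hw, mul_comm, div_mul_cancel]
  rw [pow_smul_of_smul_eq hV h3 h4, pow_two, hV, mul_one]

/-- A non-trivial abelian 2-subgroup has a maximal subgroup with more fixed points. -/
theorem exists_strict_maximal (h : Setting Γ V F) {A : Subgroup Γ} (hA : IsPGroup 2 A)
    (hc : ∀ a ∈ A, ∀ b ∈ A, Commute a b) (hne : A ≠ ⊥) :
    ∃ B ≤ A, ∃ a ∈ A, a ∉ B ∧ a * a ∈ B ∧ (∀ x ∈ A, x ∈ B ∨ a⁻¹ * x ∈ B) ∧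
      2 * (fix (V := V) (B : Set Γ)).index ≤ (fix (V := V) (A : Set Γ)).index := by
  haveI : Fact (Nat.Prime 2) := ⟨Nat.prime_two⟩
  haveI := h.normal
  have hAF : A ≤ normalizer (F : Set Γ) := by
    rw [Subgroup.normalizer_eq_top]; exact le_top
  have hcop : (Nat.card A).Coprime (Nat.card F) := by
    obtain ⟨k, hk⟩ := hA.exists_card_eq
    rw [hk]
    exact (Nat.coprime_two_left.mpr h.odd).pow_left k
  obtain ⟨K, hKA, ⟨a, ha, hgen⟩, x, hxF, hxK, hxA⟩ : ∃ K ≤ A,
      (∃ a ∈ A, K ⊔ zpowers a = A) ∧ ∃ x ∈ F, (∀ k ∈ K, Commute x k) ∧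
        x ∉ centralizer (A : Set Γ) := by
    by_contra hno
    push Not at hno
    have hle : F ≤ centralizer (A : Set Γ) := by
      refine CfsgLib.HallHigman.le_of_forall_cyclic_quotient
        ⟨⟨fun p q => Subtype.ext (hc p p.2 q q.2).eq⟩⟩ hAF hcop fun K hKA hcyc z hz => ?_
      exact hno K hKA hcyc z hz.1 fun k hk => (mem_centralizer_iff.mp hz.2 k hk).symm
    have hAle : A ≤ F := le_trans (Subgroup.le_centralizer_iff.mp hle) h.self
    refine hne (Subgroup.card_eq_one.mp ?_)
    exact Nat.eq_one_of_dvd_coprimes hcop dvd_rfl (Subgroup.card_dvd_of_le hAle)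
  have hnorm : ∀ {K : Subgroup Γ}, K ≤ A → ∀ {c : Γ}, c ∈ A →
      zpowers c ≤ normalizer (K : Set Γ) := by
    intro K hK c hcA
    refine zpowers_le.mpr (centralizer_le_normalizer _ (mem_centralizer_iff.mpr fun k hk => ?_))
    exact (hc k (hK hk) c hcA).eq
  have haa : a * a ∈ A := mul_mem ha ha
  set B := K ⊔ zpowers (a * a) with hB
  have hBA : B ≤ A := sup_le hKA (zpowers_le.mpr haa)
  have haK : a ∉ K := by
    intro h'
    apply hxA
    refine mem_centralizer_iff.mpr fun c hc' => (hxK c ?_).symm.eq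
    have : A ≤ K := hgen ▸ sup_le le_rfl (zpowers_le.mpr h')
    exact this hc'
  have hmemB : ∀ {g : Γ}, g ∈ B ↔ ∃ k ∈ K, ∃ i : ℤ, k * a ^ (2 * i) = g := by
    intro g
    rw [hB, ← SetLike.mem_coe, coe_mul_of_right_le_normalizer_left K _ (hnorm hKA haa)]
    constructor
    · rintro ⟨k, hk, _, ⟨i, rfl⟩, rfl⟩
      exact ⟨k, hk, i, by rw [zpow_mul, zpow_two]⟩
    · rintro ⟨k, hk, i, rfl⟩
      exact ⟨k, hk, _, ⟨i, rfl⟩, by rw [zpow_mul, zpow_two]⟩
  have haB : a ∉ B := by
    intro h'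
    obtain ⟨k, hk, i, e⟩ := hmemB.mp h'
    obtain ⟨e2, he2⟩ := (IsPGroup.iff_orderOf.mp hA) ⟨a, ha⟩
    rw [Subgroup.orderOf_mk] at he2
    have hk' : a ^ (1 - 2 * i) ∈ K := by
      have : a ^ (1 - 2 * i) = k := by
        rw [zpow_sub, zpow_one]
        nth_rewrite 1 [← e]
        rw [mul_inv_cancel_right]
      rw [this]; exact hk
    obtain ⟨r, hr⟩ : ∃ r : ℤ, (1 - 2 * i) * r ≡ 1 [ZMOD (orderOf a : ℤ)] := by
      have hg : Int.gcd (1 - 2 * i) ((2 : ℤ) ^ e2) = 1 := by
        refine Int.isCoprime_iff_gcd_eq_one.mp (IsCoprime.pow_right ⟨1, i, by ring⟩)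
      refine ⟨Int.gcdA (1 - 2 * i) ((2 : ℤ) ^ e2), ?_⟩
      have hb := Int.gcd_eq_gcd_ab (1 - 2 * i) ((2 : ℤ) ^ e2)
      rw [hg] at hb
      rw [he2, Int.modEq_iff_dvd]
      refine ⟨Int.gcdB (1 - 2 * i) ((2 : ℤ) ^ e2), ?_⟩
      push_cast at hb ⊢
      linarith
    refine haK ?_
    rw [← zpow_one a, ← zpow_eq_zpow_iff_modEq.mpr hr, zpow_mul]
    exact zpow_mem hk' r
  have hcov : ∀ g ∈ A, g ∈ B ∨ a⁻¹ * g ∈ B := by
    intro g hg
    rw [← hgen, ← SetLike.mem_coe, coe_mul_of_right_le_normalizer_left K _ (hnorm hKA ha)] at hg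
    obtain ⟨k, hk, _, ⟨j, rfl⟩, rfl⟩ := hg
    rcases Int.even_or_odd' j with ⟨i, rfl | rfl⟩
    · exact Or.inl (hmemB.mpr ⟨k, hk, i, rfl⟩)
    · refine Or.inr (hmemB.mpr ⟨k, hk, i, ?_⟩)
      show k * a ^ (2 * i) = a⁻¹ * (k * a ^ (2 * i + 1))
      rw [← mul_assoc, show a⁻¹ * k = k * a⁻¹ from ((hc k (hKA hk) a ha).inv_right).eq.symm,
        zpow_add, zpow_one, ((Commute.refl a).zpow_left (2 * i)).eq, mul_assoc, inv_mul_cancel_left]
  refine ⟨B, hBA, a, ha, haB, hmemB.mpr ⟨1, one_mem _, 1, by simp [pow_two]⟩, hcov, ?_⟩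
  have hle : fix (V := V) (A : Set Γ) ≤ fix (B : Set Γ) := fix_mono hBA
  rw [← Subgroup.relIndex_mul_index hle]
  refine Nat.mul_le_mul_right _ ?_
  have h0 : (fix (V := V) (A : Set Γ)).relIndex (fix (B : Set Γ)) ≠ 0 :=
    Subgroup.index_ne_zero_of_finite
  suffices h1 : (fix (V := V) (A : Set Γ)).relIndex (fix (B : Set Γ)) ≠ 1 by omega
  rw [Ne, relIndex_eq_one]
  intro hBfix
  have hafix : ∀ u ∈ fix (V := V) (K : Set Γ), a • a • u = u → a • u = u := by
    intro u hu h2
    refine hBfix (fun g hg => ?_) a ha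
    obtain ⟨k, hk, i, rfl⟩ := hmemB.mp hg
    have h3 : a ^ (2 * i) • u = u := by
      rw [zpow_mul, zpow_two]
      exact MulAction.mem_stabilizer_iff.mp
        (zpow_mem (MulAction.mem_stabilizer_iff.mpr (by rw [mul_smul, h2])) i)
    rw [mul_smul, h3, hu k hk]
  have hafK : ∀ {u : V}, u ∈ fix (V := V) (K : Set Γ) → ∀ {g : Γ}, g ∈ A →
      g • u ∈ fix (V := V) (K : Set Γ) := by
    intro u hu g hg k hk
    rw [← mul_smul, (hc k (hKA hk) g hg).eq, mul_smul, hu k hk]
  have hiter : ∀ (j : ℕ), ∀ u ∈ fix (V := V) (K : Set Γ), a ^ 2 ^ j • u = u → a • u = u := by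
    intro j
    induction j with
    | zero => intro u _ h'; simpa using h'
    | succ j ih =>
      intro u hu h'
      rw [pow_succ, pow_mul, pow_two, mul_smul] at h'
      set c := a ^ 2 ^ j with hcdef
      have hcA : c ∈ A := pow_mem ha _
      have hw : a • (c • u * u) = c • u * u :=
        ih _ (mul_mem (hafK hu hcA) hu) (by rw [smul_mul', h', mul_comm])
      have hu' : a • u * u ∈ fix (V := V) (K : Set Γ) := mul_mem (hafK hu ha) hu
      have hca : c • a • u = a • c • u := by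
        rw [← mul_smul, ← mul_smul, (hc c hcA a ha).eq]
      have e1 : a • c • u = c • u * u * a • u := by
        rw [← hw, smul_mul', mul_assoc, h.sq, mul_one]
      have hv : a • (a • u * u) = a • u * u := ih _ hu' (by
        rw [smul_mul', hca, e1, mul_comm (c • u * u), mul_assoc, mul_comm (c • u) u,
          mul_assoc, h.sq, mul_one])
      refine hafix u hu ?_
      rw [smul_mul'] at hv
      calc a • a • u = (a • a • u * a • u) * a • u := by rw [mul_assoc, h.sq, mul_one]
        _ = (a • u * u) * a • u := by rw [hv]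
        _ = u := by rw [mul_comm (a • u) u, mul_assoc, h.sq, mul_one]
  have hM : ∀ u ∈ fix (V := V) (K : Set Γ), a • u = u := by
    intro u hu
    obtain ⟨e2, he2⟩ := (IsPGroup.iff_orderOf.mp hA) ⟨a, ha⟩
    rw [Subgroup.orderOf_mk] at he2
    exact hiter e2 u hu (by rw [← he2, pow_orderOf_eq_one, one_smul])
  have hax : a * x ≠ x * a := by
    intro e
    apply hxA
    refine mem_centralizer_iff.mpr fun g hg => ?_
    have hle' : A ≤ centralizer ({x} : Set Γ) := by
      rw [← hgen]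
      exact sup_le (fun k hk => mem_centralizer_singleton_iff.mpr (hxK k hk).symm.eq)
        (zpowers_le.mpr (mem_centralizer_singleton_iff.mpr e))
    exact mem_centralizer_singleton_iff.mp (hle' hg)
  set y := x⁻¹ * (a * x * a⁻¹) with hydef
  have hyF : y ∈ F := F.mul_mem (F.inv_mem hxF) (h.normal.conj_mem x hxF a)
  have hy1 : y ≠ 1 := fun e => hax (by
    rw [hydef, inv_mul_eq_one, eq_mul_inv_iff_mul_eq] at e
    exact e.symm)
  have hyK : ∀ k ∈ K, Commute y k := fun k hk =>
    (hxK k hk).inv_left.mul_left (((hc a ha k (hKA hk)).mul_left (hxK k hk)).mul_left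
      (hc a ha k (hKA hk)).inv_left)
  refine hy1 (h.faith y (smul_eq_of_fix_le_abelian h.sq (odd_orderOf_mem h.odd hyF) (hA.to_le hKA)
    (fun p hp q hq => hc p (hKA hp) q (hKA hq)) hyK fun u hu => ?_))
  have hai : a⁻¹ • u = u := by
    rw [inv_smul_eq_iff]; exact (hM u hu).symm
  have hxu : x • u ∈ fix (V := V) (K : Set Γ) := fun k hk => by
    rw [← mul_smul, ← (hxK k hk).eq, mul_smul, hu k hk]
  rw [hydef, mul_smul, mul_smul, mul_smul, hai, hM _ hxu, inv_smul_smul]

/-- In a 2-group of transvections, commuting with all the blocks means trivial. -/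
theorem eq_one_of_centralizes_blocks (h : Setting Γ V F) {P : Subgroup Γ} (hP : IsPGroup 2 P)
    (hc : ∀ a ∈ P, ∀ b ∈ P, Commute a b) (S : Finset Γ)
    (hS : ∀ t ∈ S, t ∈ P ∧ IsTransvection V t) {b : Γ} (hb : b ∈ closure (S : Set Γ))
    (hby : ∀ t ∈ S, ∀ y, IsBlockElt V F y → t * y * t = y⁻¹ → Commute b y) : b = 1 := by
  classical
  induction S using Finset.induction generalizing b with
  | empty => simpa using hb
  | @insert t S htS ih =>
    have htP := (hS t (Finset.mem_insert_self t S)).1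
    have ht := (hS t (Finset.mem_insert_self t S)).2
    obtain ⟨y, hy, hyinv⟩ := h.exists_inverted ht
    have hSy : ∀ s ∈ S, Commute s y := by
      intro s hs
      obtain ⟨hsP, hst⟩ := hS s (Finset.mem_insert_of_mem hs)
      obtain ⟨z, hz, hzinv⟩ := h.exists_inverted hst
      by_cases hyz : y ∈ zpowers z
      · exfalso
        apply htS
        have hyinv' : t * z * t = z⁻¹ := by
          rcases eq_or_eq_inv_of_mem_zpowers hz.order hyz hy.ne_one with rfl | rfl
          · exact hyinv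
          · rw [inv_inv] at hyinv
            calc t * z * t = (t * z⁻¹ * t)⁻¹ := by
                  simp [mul_assoc, inv_eq_of_mul_eq_one_right ht.1]
              _ = z⁻¹ := by rw [hyinv]
        exact (hz.eq_of_twoGroup h ht hyinv' hst hzinv hP htP hsP).symm ▸ hs
      · exact (hz.transvection_other h hst hzinv hy hyz).1
    have hmem : b ∈ closure (S : Set Γ) := by
      rw [Finset.coe_insert, Set.insert_eq, Subgroup.closure_union, ← zpowers_eq_closure] at hb
      have hn : closure (S : Set Γ) ≤ normalizer ((zpowers t : Subgroup Γ) : Set Γ) := by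
        rw [closure_le]
        intro s hs
        refine centralizer_le_normalizer _ (mem_centralizer_iff.mpr ?_)
        rintro _ ⟨i, rfl⟩
        exact ((hc t htP s (hS s (Finset.mem_insert_of_mem hs)).1).zpow_left i).eq
      rw [← SetLike.mem_coe, coe_mul_of_right_le_normalizer_left (zpowers t) _ hn] at hb
      obtain ⟨_, ⟨i, rfl⟩, c, hcS, rfl⟩ := hb
      have hcy : Commute c y := by
        have hle : closure (S : Set Γ) ≤ centralizer ({y} : Set Γ) := by
          rw [closure_le]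
          exact fun s hs => mem_centralizer_singleton_iff.mpr (hSy s hs).eq
        exact mem_centralizer_singleton_iff.mp (hle hcS)
      have hti : Commute (t ^ i) y := by
        have := (hby t (Finset.mem_insert_self t S) y hy hyinv).mul_left hcy.inv_left
        simpa using this
      rcases Int.even_or_odd' i with ⟨j, rfl | rfl⟩
      · have : t ^ (2 * j) = 1 := by rw [zpow_mul, zpow_two, ht.1, one_zpow]
        simpa [this] using hcS
      · exfalso
        rw [zpow_add, zpow_mul, zpow_two, ht.1, one_zpow, zpow_one, one_mul] at hti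
        refine hy.ne_one (eq_one_of_inv_eq hy.odd ?_)
        rw [← hyinv, hti.eq, mul_assoc, ht.1, mul_one]
    exact ih (fun s hs => hS s (Finset.mem_insert_of_mem hs)) hmem
      fun s hs => hby s (Finset.mem_insert_of_mem hs)

/-- **Abelian offenders.** -/
theorem offender_abelian (h : Setting Γ V F) : ∀ {A : Subgroup Γ}, IsPGroup 2 A →
    (∀ a ∈ A, ∀ b ∈ A, Commute a b) →
      Nat.card A ≤ (fix (V := V) (A : Set Γ)).index ∧
        (Nat.card A = (fix (V := V) (A : Set Γ)).index →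
          A ≤ Subgroup.closure {t | t ∈ A ∧ IsTransvection V t}) := by
  intro A
  induction hn : Nat.card A using Nat.strong_induction_on generalizing A with
  | h n ih =>
  subst hn
  intro hA hc
  rcases eq_or_ne A ⊥ with rfl | hne
  · refine ⟨?_, fun _ => bot_le⟩
    rw [Subgroup.card_bot]
    exact Nat.one_le_iff_ne_zero.mpr (fix (V := V) _).index_ne_zero_of_finite
  obtain ⟨B, hBA, a, ha, haB, haaB, hcov, hidx⟩ := exists_strict_maximal h hA hc hne
  have hlt : B < A := lt_of_le_of_ne hBA fun e => haB (e ▸ ha)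
  have hcard : Nat.card A ≤ 2 * Nat.card B := by
    classical
    let f : Bool × B → A := fun p =>
      if p.1 then ⟨a * p.2, mul_mem ha (hBA p.2.2)⟩ else ⟨p.2, hBA p.2.2⟩
    refine (Nat.card_le_card_of_surjective f fun g => ?_).trans_eq (by simp [Nat.card_prod])
    rcases hcov g g.2 with hg | hg
    · exact ⟨(false, ⟨g, hg⟩), Subtype.ext (by simp [f])⟩
    · exact ⟨(true, ⟨_, hg⟩), Subtype.ext (by simp [f])⟩
  have hcardlt : Nat.card B < Nat.card A :=
    lt_of_le_of_ne (Subgroup.card_le_of_le hBA)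
      fun e => hlt.ne (Subgroup.eq_of_le_of_card_ge hBA e.ge)
  obtain ⟨h1, h2⟩ := ih _ hcardlt rfl (hA.to_le hBA) fun p hp q hq => hc p (hBA hp) q (hBA hq)
  refine ⟨by omega, fun heq => ?_⟩
  have hBgen := h2 (by omega)
  -- `A` is elementary
  have hBel : ∀ b ∈ B, b * b = 1 := by
    intro b hb
    have hcl := hBgen hb
    induction hcl using Subgroup.closure_induction with
    | mem t ht => exact ht.2.1
    | one => simp
    | mul p q hp hq ihp ihq =>
      have hpB : ∀ {g : Γ}, g ∈ Subgroup.closure {t | t ∈ B ∧ IsTransvection V t} → g ∈ B :=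
        fun hg => (Subgroup.closure_le B).mpr (fun t ht => ht.1) hg
      rw [show p * q * (p * q) = p * (q * p) * q by group,
        (hc q (hBA (hpB hq)) p (hBA (hpB hp))).eq, show p * (p * q) * q = (p * p) * (q * q) by group,
        ihp (hpB hp), ihq (hpB hq), one_mul]
    | inv p hp ihp =>
      have hpB : p ∈ B := (Subgroup.closure_le B).mpr (fun t ht => ht.1) hp
      rw [← mul_inv_rev, ihp hpB, inv_one]
  have haa : a * a = 1 := by
    classical
    set T := (Set.toFinite {t | t ∈ B ∧ IsTransvection V t}).toFinset with hT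
    refine eq_one_of_centralizes_blocks h hA hc T (fun t ht => ?_) ?_ fun t ht y hy hyinv => ?_
    · rw [hT, Set.Finite.mem_toFinset] at ht
      exact ⟨hBA ht.1, ht.2⟩
    · rw [hT, Set.Finite.coe_toFinset]; exact hBgen haaB
    · rw [hT, Set.Finite.mem_toFinset] at ht
      have hta : t * a = a * t := (hc t (hBA ht.1) a ha).eq
      have hinv' : t * (a * y * a⁻¹) * t = (a * y * a⁻¹)⁻¹ := by
        rw [show (a * y * a⁻¹)⁻¹ = a * y⁻¹ * a⁻¹ by group, ← hyinv,
          show t * (a * y * a⁻¹) * t = (t * a) * y * (a⁻¹ * t) by group, hta,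
          (hc t (hBA ht.1) a⁻¹ (inv_mem ha)).eq.symm]
        group
      have hmem := hy.mem_zpowers_of_inverted h ht.2 hyinv (hy.conj h a) hinv'
      have hne' : a * y * a⁻¹ ≠ 1 := (hy.conj h a).ne_one
      rw [commute_iff_eq, ← mul_inv_eq_iff_eq_mul,
        show a * a * y * (a * a)⁻¹ = a * (a * y * a⁻¹) * a⁻¹ by group]
      rcases eq_or_eq_inv_of_mem_zpowers hy.order hmem hne' with e | e
      · rw [e, e]
      · rw [e, show a * y⁻¹ * a⁻¹ = (a * y * a⁻¹)⁻¹ by group, e, inv_inv]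
  refine (h.offender ⟨⟨⟨fun p q => Subtype.ext (hc p p.2 q q.2).eq⟩⟩, fun g hg => ?_⟩).2 heq
  rw [pow_two]
  rcases hcov g hg with hgB | hgB
  · exact hBel g hgB
  · have e : g = a * (a⁻¹ * g) := by group
    rw [e, show a * (a⁻¹ * g) * (a * (a⁻¹ * g)) = a * ((a⁻¹ * g) * a) * (a⁻¹ * g) by group,
      (hc (a⁻¹ * g) (hBA hgB) a ha).eq,
      show a * (a * (a⁻¹ * g)) * (a⁻¹ * g) = (a * a) * ((a⁻¹ * g) * (a⁻¹ * g)) by group,
      haa, hBel _ hgB, one_mul]

end CfsgLib.JOffender
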